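import Groth.Agent.ResProp.EF.K111.FrameAsm2
import Groth.Agent.ResProp.EF.K213.Act

/-!
# `StmtFrame` (helpers 556, 642: identities; helper213: action)
-/

set_option autoImplicit false

universe u

open Groth.Agent.Grpsch.AffGrpd

namespace Groth.Agent.ResProp.EF.K111

open K743

theorem stmtFrameAct : StmtFrameAct.{u} := by
  intro A Γ _ _ G X m K _ x P R hs
  obtain ⟨a⟩ := K213.nonempty_actData P R hs
  exact ⟨{ act := a.act, act_ι := a.act_ι, act_Q₁ := a.act_Q₁, act_μ := a.act_μ, act_id := a.act_id,
           act_comp := a.act_comp }⟩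

/-- **G1B-F3** -/
theorem stmtFrame : StmtFrame.{u} := stmtFrame_of_act stmtFrameAct

end Groth.Agent.ResProp.EF.K111
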