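import Groth.Agent.ResProp.EF.K743.Iface2

/-!
# Assembly of `StmtFrame` (G1B-F3A) from the identities (G1B-F3P) and the action (G1B-F3)
-/

set_option autoImplicit false

universe u

open Groth.Agent.Grpsch.AffGrpd

namespace Groth.Agent.ResProp.EF.K111

open K743

variable {A Γ : Type u} [CommRing A] [CommRing Γ] {G : RGrpd A Γ} {X : Gens G} {m : ℕ}

/-- the three identities `P1`, `P2`, `P4` of a frame ring -/
structure FrameP (F : FrameData G X m) : Prop where
  P1 : ∀ {T : Type u} [CommRing T] (φ : F.D →+* T) (h : Γ →+* T), h.comp G.s = φ.comp F.ι →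
    ∀ (I : Fin F.r₁ → Fin X.n) (j : Fin X.n),
      φ (F.m₁ I) * h (X.x j) = ∑ i, φ (F.m₁ (Function.update I i j)) * h (X.x (I i))
  P2 : ∀ {T : Type u} [CommRing T] (φ : F.D →+* T) (h : Γ →+* T), h.comp G.s = φ.comp F.ι →
    ∀ (I : Fin F.r₂ → Fin m → Fin X.n) (J : Fin m → Fin X.n),
      φ (F.m₂ I) * h (X.mon J) = ∑ i, φ (F.m₂ (Function.update I i J)) * h (X.mon (I i))
  P4 : ∀ E : (Fin m → Fin X.n) → A, ∑ J, G.s (E J) * X.mon J = 0 → ∀ b, ∑ J, F.ι (E J) * F.Q₂ J b = 0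

/-- the action of the groupoid on a frame ring, on points -/
structure FrameAct (F : FrameData G X m) where
  act : ∀ {T : Type u} [CommRing T] (σ : Γ →+* T) (φ : F.D →+* T), σ.comp G.s = φ.comp F.ι → (F.D →+* T)
  act_ι : ∀ {T : Type u} [CommRing T] (σ : Γ →+* T) (φ : F.D →+* T) (h : σ.comp G.s = φ.comp F.ι),
    (act σ φ h).comp F.ι = σ.comp G.t
  act_Q₁ : ∀ {T : Type u} [CommRing T] (σ : Γ →+* T) (φ : F.D →+* T) (h : σ.comp G.s = φ.comp F.ι) (j : Fin X.n)
    (a : Fin F.r₁), act σ φ h (F.Q₁ j a) = ∑ k, σ (G.i (X.c k j)) * φ (F.Q₁ k a)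
  act_μ : ∀ {T : Type u} [CommRing T] (σ : Γ →+* T) (φ : F.D →+* T) (h : σ.comp G.s = φ.comp F.ι)
    (κ : Fin m → Fin F.r₁) (b : Fin F.r₂), act σ φ h (F.μ κ b) = φ (F.μ κ b)
  act_id : ∀ {T : Type u} [CommRing T] (φ : F.D →+* T) (h : ((φ.comp F.ι).comp G.e).comp G.s = φ.comp F.ι),
    act ((φ.comp F.ι).comp G.e) φ h = φ
  act_comp : ∀ {T : Type u} [CommRing T] (α β : Γ →+* T) (φ : F.D →+* T) (hβ : β.comp G.s = φ.comp F.ι)
    (h : α.comp G.s = β.comp G.t) (h' : (G.comp α β h).comp G.s = φ.comp F.ι) (h'' : α.comp G.s = (act β φ hβ).comp F.ι),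
    act (G.comp α β h) φ h' = act α (act β φ hβ) h''

/-- the frame ring from its two halves -/
noncomputable def mkFrame (F : FrameData G X m) (p : FrameP F) (a : FrameAct F) : Frame G X m where
  toFrameData := F
  P1 := p.P1
  P2 := p.P2
  P4 := p.P4
  act := a.act
  act_ι := a.act_ι
  act_Q₁ := a.act_Q₁
  act_μ := a.act_μ
  act_id := a.act_id
  act_comp := a.act_comp

/-- **G1B-F3** (949 / 726): the action on the closure of the orbit. -/
def StmtFrameAct : Prop := ∀ {A Γ : Type u} [CommRing A] [CommRing Γ] (G : RGrpd A Γ) (X : Gens G) (m : ℕ)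
    {K : Type u} [Field K] (x : A →+* K) (P : PtData G X m x) (R : LRing G x P.r₁ P.r₂), G.s.Flat →
    Nonempty (FrameAct (LRing.frameData P R))

/-- **G1B-F3P** (556 / 642): the identities. -/
def StmtFrameP : Prop := ∀ {A Γ : Type u} [CommRing A] [CommRing Γ] (G : RGrpd A Γ) (X : Gens G) (m : ℕ)
    {K : Type u} [Field K] (x : A →+* K) (P : PtData G X m x) (R : LRing G x P.r₁ P.r₂), G.s.Flat →
    FrameP (LRing.frameData P R)

/-- **G1B-F3A**: the assembly. -/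
theorem stmtFrame_of (hA : StmtFrameAct.{u}) (hP : StmtFrameP.{u}) : StmtFrame.{u} := by
  intro A Γ _ _ G X m K _ x P R hs
  obtain ⟨a⟩ := hA G X m x P R hs
  exact ⟨mkFrame _ (hP G X m x P R hs) a, rfl⟩

end Groth.Agent.ResProp.EF.K111
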