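import Groth.Agent.ResProp.EF.K111.FrameAsm
import Groth.Agent.ResProp.EF.K556.FrameP

/-!
# The identities half of `StmtFrame` is proved (helper556); `StmtFrame` from the action half only
-/

set_option autoImplicit false

universe u

open Groth.Agent.Grpsch.AffGrpd

namespace Groth.Agent.ResProp.EF.K111

open K743

theorem stmtFrameP : StmtFrameP.{u} := by
  intro A Γ _ _ G X m K _ x P R hs
  exact { P1 := K556.frame_P1 P R hs, P2 := K556.frame_P2 P R hs, P4 := K556.frame_P4 P R }

/-- `StmtFrame` from the action half -/
theorem stmtFrame_of_act (hA : StmtFrameAct.{u}) : StmtFrame.{u} := stmtFrame_of hA stmtFrameP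

end Groth.Agent.ResProp.EF.K111
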