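import Mathlib.RingTheory.Flat.Basic
import Mathlib.RingTheory.RingHom.Flat
import Mathlib.RingTheory.TensorProduct.Basic

/-!
# Testing bilinear identities on a bigger ring

`j : D → L` injective, `s : A → Γ` flat, `ι : A → D`.  An identity `∑ φ (d i) * h (g i) = 0` for all pairs
`(φ : D → T, h : Γ → T)` with `h ∘ s = φ ∘ ι` may be tested on the pairs for which `φ` extends to `L`; and ring maps
`E → L ⊗ Γ` whose values on generators lie in `D ⊗ Γ` factor through `D ⊗ Γ` (on points).
-/

set_option autoImplicit false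
set_option linter.style.haveILetI false

universe u

open TensorProduct

namespace Groth.Agent.ResProp.EF.K111

variable {A Γ D L : Type u} [CommRing A] [CommRing Γ] [CommRing D] [CommRing L]

section

variable (s : A →+* Γ) (ι : A →+* D) (j : D →+* L)

/-- the universal pair ring `D ⊗_{ι, A, s} Γ` -/
abbrev PR (s : A →+* Γ) (ι : A →+* D) : Type u :=
  letI := s.toAlgebra; letI := ι.toAlgebra; D ⊗[A] Γ

noncomputable instance : CommRing (PR s ι) := by
  letI := s.toAlgebra; letI := ι.toAlgebra
  infer_instance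

/-- the first coordinate of the universal pair -/
noncomputable def PR.φ : D →+* PR s ι :=
  letI := s.toAlgebra; letI := ι.toAlgebra
  (Algebra.TensorProduct.includeLeft (R := A) (S := A) (A := D) (B := Γ)).toRingHom

/-- the second coordinate of the universal pair -/
noncomputable def PR.h : Γ →+* PR s ι :=
  letI := s.toAlgebra; letI := ι.toAlgebra
  (Algebra.TensorProduct.includeRight (R := A) (A := D) (B := Γ)).toRingHom

theorem PR.comm : (PR.h s ι).comp s = (PR.φ s ι).comp ι := by
  letI := s.toAlgebra; letI := ι.toAlgebra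
  ext a
  change (1 : D) ⊗ₜ[A] (s a) = (ι a) ⊗ₜ[A] (1 : Γ)
  have h1 : s a = a • (1 : Γ) := by rw [Algebra.smul_def, mul_one]; rfl
  have h2 : ι a = a • (1 : D) := by rw [Algebra.smul_def, mul_one]; rfl
  rw [h1, h2, TensorProduct.tmul_smul, TensorProduct.smul_tmul']

variable {s ι}

/-- the map out of the universal pair ring -/
noncomputable def PR.lift {T : Type u} [CommRing T] (φ : D →+* T) (h : Γ →+* T) (e : h.comp s = φ.comp ι) :
    PR s ι →+* T :=
  letI := s.toAlgebra; letI := ι.toAlgebra; letI := (h.comp s).toAlgebra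
  (Algebra.TensorProduct.lift (R := A) (S := A) (A := D) (B := Γ) (C := T)
    { toRingHom := φ, commutes' := fun a => (RingHom.congr_fun e a).symm }
    { toRingHom := h, commutes' := fun _ => rfl } (fun _ _ => Commute.all _ _)).toRingHom

theorem PR.lift_tmul {T : Type u} [CommRing T] (φ : D →+* T) (h : Γ →+* T) (e : h.comp s = φ.comp ι) (d : D) (x : Γ) :
    PR.lift φ h e (letI := s.toAlgebra; letI := ι.toAlgebra; (d ⊗ₜ[A] x : D ⊗[A] Γ)) = φ d * h x := by
  letI := s.toAlgebra; letI := ι.toAlgebra; letI := (h.comp s).toAlgebra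
  exact Algebra.TensorProduct.lift_tmul (R := A) (S := A) (A := D) (B := Γ) (C := T)
    { toRingHom := φ, commutes' := fun a => (RingHom.congr_fun e a).symm }
    { toRingHom := h, commutes' := fun _ => rfl } (fun _ _ => Commute.all _ _) d x

theorem PR.lift_φ {T : Type u} [CommRing T] (φ : D →+* T) (h : Γ →+* T) (e : h.comp s = φ.comp ι) :
    (PR.lift φ h e).comp (PR.φ s ι) = φ := by
  ext d
  refine (PR.lift_tmul φ h e d 1).trans ?_
  rw [map_one, mul_one]

theorem PR.lift_h {T : Type u} [CommRing T] (φ : D →+* T) (h : Γ →+* T) (e : h.comp s = φ.comp ι) :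
    (PR.lift φ h e).comp (PR.h s ι) = h := by
  ext d
  refine (PR.lift_tmul φ h e 1 d).trans ?_
  rw [map_one, one_mul]

theorem PR.tmul_eq (s : A →+* Γ) (ι : A →+* D) (d : D) (x : Γ) :
    (letI := s.toAlgebra; letI := ι.toAlgebra; (d ⊗ₜ[A] x : D ⊗[A] Γ)) = PR.φ s ι d * PR.h s ι x := by
  letI := s.toAlgebra; letI := ι.toAlgebra
  change _ = (d ⊗ₜ[A] (1 : Γ)) * ((1 : D) ⊗ₜ[A] x)
  rw [Algebra.TensorProduct.tmul_mul_tmul, mul_one, one_mul]

/-- two ring maps out of the universal pair ring -/
theorem PR.ext {T : Type u} [CommRing T] {f g : PR s ι →+* T} (h1 : f.comp (PR.φ s ι) = g.comp (PR.φ s ι))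
    (h2 : f.comp (PR.h s ι) = g.comp (PR.h s ι)) : f = g := by
  letI := s.toAlgebra; letI := ι.toAlgebra
  refine RingHom.ext fun z => ?_
  induction z using TensorProduct.induction_on with
  | zero => rw [map_zero, map_zero]
  | tmul d x =>
    have := PR.tmul_eq s ι d x
    refine (congrArg f this).trans (Eq.trans ?_ (congrArg g this).symm)
    rw [map_mul, map_mul, ← RingHom.comp_apply, h1, ← RingHom.comp_apply f, h2]
    rfl
  | add a b ha hb => rw [map_add, map_add, ha, hb]

/-- base change of the universal pair ring along `j` -/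
noncomputable def PR.map : PR s ι →+* PR s (j.comp ι) :=
  PR.lift ((PR.φ s (j.comp ι)).comp j) (PR.h s (j.comp ι)) (PR.comm s (j.comp ι))

/-- **injectivity** of `D ⊗ Γ → L ⊗ Γ` -/
theorem PR.map_injective (hs : s.Flat) (hj : Function.Injective j) : Function.Injective (PR.map (s := s) (ι := ι) j) := by
  letI := s.toAlgebra; letI := ι.toAlgebra; letI i2 := (j.comp ι).toAlgebra
  haveI : Module.Flat A Γ := hs
  let jl : D →ₗ[A] L :=
    { toFun := j, map_add' := map_add j, map_smul' := fun a d => by
        rw [Algebra.smul_def, Algebra.smul_def, map_mul]; rfl }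
  have h1 : Function.Injective (LinearMap.rTensor Γ jl) := Module.Flat.rTensor_preserves_injective_linearMap jl hj
  have h2 : ∀ z : D ⊗[A] Γ, (PR.map (s := s) (ι := ι) j) z = LinearMap.rTensor Γ jl z := by
    intro z
    induction z using TensorProduct.induction_on with
    | zero => rw [map_zero, map_zero]
    | tmul d x =>
      rw [LinearMap.rTensor_tmul]
      refine (congrArg (PR.map (s := s) (ι := ι) j) (PR.tmul_eq s ι d x)).trans
        (Eq.trans ?_ (PR.tmul_eq s (j.comp ι) (j d) x).symm)
      rw [map_mul, ← RingHom.comp_apply (PR.map j) (PR.φ s ι), ← RingHom.comp_apply (PR.map j) (PR.h s ι)]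
      rw [PR.map, PR.lift_φ, PR.lift_h]
      rfl
    | add a b ha hb => rw [map_add, map_add, ha, hb]
  intro a b hab
  exact h1 ((h2 a).symm.trans (hab.trans (h2 b)))

end

/-- **Testing principle.** A bilinear identity holds for all pairs `(φ, h)` as soon as it holds for those for which `φ`
extends to `L`. -/
theorem pair_test (s : A →+* Γ) (ι : A →+* D) (j : D →+* L) (hs : s.Flat) (hj : Function.Injective j)
    {I : Type} [Fintype I] (d : I → D) (g : I → Γ)
    (H : ∀ {T : Type u} [CommRing T] (φ : L →+* T) (h : Γ →+* T), h.comp s = φ.comp (j.comp ι) →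
      ∑ i, φ (j (d i)) * h (g i) = 0)
    {T : Type u} [CommRing T] (φ : D →+* T) (h : Γ →+* T) (e : h.comp s = φ.comp ι) :
    ∑ i, φ (d i) * h (g i) = 0 := by
  have h0 : ∑ i, PR.φ s ι (d i) * PR.h s ι (g i) = 0 := by
    apply PR.map_injective (s := s) (ι := ι) j hs hj
    rw [map_zero, map_sum]
    refine (Finset.sum_congr rfl fun i _ => ?_).trans (H (PR.φ s (j.comp ι)) (PR.h s (j.comp ι)) (PR.comm s (j.comp ι)))
    rw [map_mul, ← RingHom.comp_apply (PR.map j) (PR.φ s ι), ← RingHom.comp_apply (PR.map j) (PR.h s ι)]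
    rw [PR.map, PR.lift_φ, PR.lift_h]
    rfl
  have := congrArg (PR.lift φ h e) h0
  rw [map_zero, map_sum] at this
  refine (Finset.sum_congr rfl fun i _ => ?_).trans this
  rw [map_mul, ← RingHom.comp_apply _ (PR.φ s ι), PR.lift_φ, ← RingHom.comp_apply _ (PR.h s ι), PR.lift_h]

/-- **Factorization on points.** A ring map `c : E → L ⊗ Γ` (`E = D` in the application) which maps a generating set of
`E` into (the image of) `D ⊗ Γ` factors through `D ⊗ Γ`. -/
theorem exists_factor {E : Type u} [CommRing E] (s : A →+* Γ) (ι : A →+* D) (j : D →+* L) (hs : s.Flat)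
    (hj : Function.Injective j) (S : Set E) (hS : Subring.closure S = ⊤) (c : E →+* PR s (j.comp ι))
    (hc : ∀ e ∈ S, c e ∈ (PR.map (s := s) (ι := ι) j).range) :
    ∃ c' : E →+* PR s ι, (PR.map (s := s) (ι := ι) j).comp c' = c := by
  have h1 : ∀ e, c e ∈ (PR.map (s := s) (ι := ι) j).range := by
    intro e
    have : e ∈ Subring.closure S := by rw [hS]; trivial
    have h2 : Subring.closure S ≤ (PR.map (s := s) (ι := ι) j).range.comap c := (Subring.closure_le).2 fun e he => hc e he
    exact h2 this
  have hinj := PR.map_injective (s := s) (ι := ι) j hs hj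
  let c0 : E →+* (PR.map (s := s) (ι := ι) j).range := c.codRestrict _ h1
  let eqv : PR s ι ≃+* (PR.map (s := s) (ι := ι) j).range := RingEquiv.ofBijective (PR.map (s := s) (ι := ι) j).rangeRestrict
    ⟨fun a b hab => hinj (congrArg Subtype.val hab), RingHom.rangeRestrict_surjective _⟩
  refine ⟨eqv.symm.toRingHom.comp c0, ?_⟩
  ext e
  have : eqv (eqv.symm (c0 e)) = c0 e := eqv.apply_symm_apply _
  exact congrArg Subtype.val this

end Groth.Agent.ResProp.EF.K111
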